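import Cfsg.Agent.Lib.Helper82.StUniq.ChevDefs
import Cfsg.Agent.Lib.Helper5.StChev.NonDeg

/-!
# S2318-[C-ASM-NE] (helper82's project): there is a non-degenerate linear character of `U`
-/

set_option autoImplicit false

namespace Cfsg.Agent.Lib.Helper44.StChev

open Cfsg Cfsg.Lie Cfsg.Agent.Lib.Helper18 Cfsg.Agent.Lib.Helper82.StUniq Cfsg.Agent.Lib.Helper82.StChev

universe u
variable {F : Type u} [Field F] {D : ChevalleyDatum}

theorem simple_inj' (hD : D ∈ [chevG2, chevB2, chevD4, chevF4, chevE6, chevE7, chevE8])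
    (i j : ℕ) (hi : i < D.rank) (hj : j < D.rank) (h : D.simple i = D.simple j) : i = j := by
  have key : ∀ i < D.rank, ∀ j < D.rank, D.simple i = D.simple j → i = j := by
    simp only [List.mem_cons, List.not_mem_nil, or_false] at hD
    rcases hD with rfl | rfl | rfl | rfl | rfl | rfl | rfl <;> decide
  exact key i hi j hj h

theorem isPosRoot_simple (hD : D ∈ [chevG2, chevB2, chevD4, chevF4, chevE6, chevE7, chevE8])
    (i : ℕ) (hi : i < D.rank) : D.IsPosRoot (D.simple i) := by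
  obtain ⟨C⟩ := nonempty_chevData.{0} D hD
  exact (isPosRoot_iff hD _).2 ⟨C.simple_lt i hi, C.half_le_simple i hi⟩

theorem posUnipotent_le_group (hD : D ∈ [chevG2, chevB2, chevD4, chevF4, chevE6, chevE7, chevE8]) :
    D.posUnipotent F ≤ D.group F := by
  obtain ⟨hBG, -, -⟩ := Cfsg.Agent.S1043.result (F := F) D hD
  exact fun g hg => hBG (Subgroup.mem_sup_left hg)

/-- transport of a linear character of `U ≤ GL` to `U ≤ ↥(D.group F)` -/
noncomputable def liftChar (hD : D ∈ [chevG2, chevB2, chevD4, chevF4, chevE6, chevE7, chevE8])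
    (ψ : ↥(D.posUnipotent F) →* ℂˣ) : ↥(chevS (F := F) hD).U →* ℂˣ :=
  ψ.comp (Subgroup.subgroupOfEquivOfLe (posUnipotent_le_group hD)).toMonoidHom

theorem liftChar_apply (hD : D ∈ [chevG2, chevB2, chevD4, chevF4, chevE6, chevE7, chevE8])
    (ψ : ↥(D.posUnipotent F) →* ℂˣ) (g : ↥(D.group F)) (hg : g ∈ (chevS (F := F) hD).U) :
    liftChar hD ψ ⟨g, hg⟩ = ψ ⟨(g : GL D.Idx F), mem_UG.1 hg⟩ := rfl

theorem nondeg_of_char (hD : D ∈ [chevG2, chevB2, chevD4, chevF4, chevE6, chevE7, chevE8])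
    (ξ : ℕ → AddChar F ℂ) (hξ : ∀ i < D.rank, ∃ t : F, ξ i t ≠ 1)
    (ψ : ↥(D.posUnipotent F) →* ℂˣ)
    (hψ : ∀ (s : ℕ) (t : F) (hs : D.IsPosRoot s),
      ((ψ ⟨xG hD s t, xG_mem_posUnipotent hD s t hs⟩ : ℂˣ) : ℂ) =
        ∏ i ∈ Finset.range D.rank, if s = D.simple i then ξ i t else 1) :
    liftChar hD ψ ∈ nondeg hD := by
  refine ⟨?_, ?_⟩
  · intro s t hs hne
    apply Units.ext
    change ((ψ ⟨xG hD s t, _⟩ : ℂˣ) : ℂ) = 1
    rw [hψ s t hs]
    apply Finset.prod_eq_one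
    intro i hi
    rw [if_neg (hne i (Finset.mem_range.1 hi))]
  · intro i hi
    obtain ⟨t, ht⟩ := hξ i hi
    refine ⟨t, isPosRoot_simple hD i hi, ?_⟩
    intro h
    apply ht
    have h' := congrArg (fun z : ℂˣ => (z : ℂ)) h
    simp only [Units.val_one] at h'
    change ((ψ ⟨xG hD (D.simple i) t, _⟩ : ℂˣ) : ℂ) = 1 at h'
    rw [hψ _ t (isPosRoot_simple hD i hi), Finset.prod_eq_single i] at h'
    · rwa [if_pos rfl] at h'
    · intro j hj hji
      rw [if_neg]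
      intro hs
      exact hji (simple_inj' hD j i (Finset.mem_range.1 hj) hi hs.symm)
    · intro hni
      exact absurd (Finset.mem_range.2 hi) hni

theorem nondeg_nonempty [Fintype F] (hD : D ∈ [chevG2, chevB2, chevD4, chevF4, chevE6, chevE7, chevE8]) :
    (nondeg (F := F) hD).Nonempty := by
  obtain ⟨ξ, hξ⟩ := (AddChar.exists_apply_ne_zero (α := F) (a := 1)).2 one_ne_zero
  obtain ⟨ψ, hψ⟩ := Cfsg.Agent.Lib.Helper5.StChev.exists_char_of_simple (F := F) hD (fun _ => ξ)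
  exact ⟨liftChar hD ψ, nondeg_of_char hD (fun _ => ξ) (fun _ _ => ⟨1, hξ⟩) ψ hψ⟩

end Cfsg.Agent.Lib.Helper44.StChev
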