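import Cfsg.Agent.Lib.Helper82.StUniq.ChevDefs
import Cfsg.Agent.Lib.Helper5.StChev.Cell
import Cfsg.Agent.Lib.Helper44.StChev.AsmNE

/-!
# S2318-[C-ASM-CELL] (helper82's project): the cell hypothesis for non-degenerate characters
-/

set_option autoImplicit false

namespace Cfsg.Agent.Lib.Helper44.StChev

open Cfsg Cfsg.Lie Cfsg.Agent.Lib.Helper18 Cfsg.Agent.Lib.Helper82.StUniq Cfsg.Agent.Lib.Helper82.StChev

universe u
variable {F : Type u} [Field F] {D : ChevalleyDatum}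

theorem cellHyp_nondeg (hD : D ∈ [chevG2, chevB2, chevD4, chevF4, chevE6, chevE7, chevE8])
    (n₀ : ↥(D.group F)) (hn₀ : IsLongestRep D F (n₀ : GL D.Idx F))
    (ψ : ↥(chevS (F := F) hD).U →* ℂˣ) (hψ : ψ ∈ nondeg hD) : CellHyp (chevS hD) n₀ ψ := by
  obtain ⟨hBG, -, -⟩ := Cfsg.Agent.S1043.result (F := F) D hD
  have hUG : D.posUnipotent F ≤ D.group F := posUnipotent_le_group hD
  intro g hg
  rcases Cfsg.Agent.Lib.Helper5.StChev.cell_dichotomy hD (n₀ : GL D.Idx F) hn₀ (g : GL D.Idx F) g.2 with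
    ⟨b, hb, u, hu, hgbu⟩ | ⟨i, hi, u', hu', hall⟩
  · exfalso
    apply hg
    refine ⟨⟨b, hBG hb⟩, mem_BG.2 hb, ⟨u, hUG hu⟩, mem_UG.2 hu, ?_⟩
    exact Subtype.ext hgbu
  · obtain ⟨t, hs, ht⟩ := hψ.2 i hi
    set uE : ↥(D.group F) := ⟨u', hUG hu'⟩ with huE
    have huEU : uE ∈ (chevS (F := F) hD).U := mem_UG.2 hu'
    have hxEU : xE hD (D.simple i) t ∈ (chevS (F := F) hD).U := xE_mem_UG hD _ t hs
    set y : ↥(D.group F) := uE⁻¹ * xE hD (D.simple i) t * uE with hy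
    have hyU : y ∈ (chevS (F := F) hD).U :=
      Subgroup.mul_mem _ (Subgroup.mul_mem _ (Subgroup.inv_mem _ huEU) hxEU) huEU
    have hxU : g * y * g⁻¹ ∈ (chevS (F := F) hD).U := by
      apply mem_UG.2
      have := hall t
      simpa [hy, huE] using this
    have hconj : g⁻¹ * (g * y * g⁻¹) * g = y := by group
    refine ⟨g * y * g⁻¹, hxU, by rw [hconj]; exact hyU, ?_⟩
    have e : (⟨g⁻¹ * (g * y * g⁻¹) * g, by rw [hconj]; exact hyU⟩ : ↥(chevS (F := F) hD).U) =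
        (⟨uE, huEU⟩ : ↥(chevS (F := F) hD).U)⁻¹ * ⟨xE hD (D.simple i) t, hxEU⟩ * ⟨uE, huEU⟩ := by
      apply Subtype.ext
      exact hconj.trans hy
    rw [e, map_mul, map_mul, map_inv, mul_comm, ← mul_assoc, mul_inv_cancel, one_mul]
    exact ht

end Cfsg.Agent.Lib.Helper44.StChev
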