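import Cfsg.Agent.Lib.Helper82.StUniq.ChevDefs
import Cfsg.Agent.Lib.Helper5.StChev.HGen
import Cfsg.Agent.Lib.Helper18.BN4

/-!
# S2318-[C-ASM-HT] (helper82's project): a linear character of `H` trivial on all
`H ∩ ⟨X_{p_i}, n_i X_{p_i} n_i⁻¹⟩` is trivial
-/

set_option autoImplicit false

namespace Cfsg.Agent.Lib.Helper44.StChev

open Cfsg Cfsg.Lie Cfsg.Agent.Lib.Helper18 Cfsg.Agent.Lib.Helper82.StUniq Cfsg.Agent.Lib.Helper82.StChev

universe u
variable {F : Type u} [Field F] {D : ChevalleyDatum}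

theorem rootSubgroup_le_group (hD : D ∈ [chevG2, chevB2, chevD4, chevF4, chevE6, chevE7, chevE8]) (r : ℕ) :
    D.rootSubgroup F r ≤ D.group F := by
  intro g hg
  obtain ⟨t, rfl⟩ := (mem_rootSubgroup_iff hD r g).1 hg
  exact xG_mem_group hD r t

/-- conjugates and `subgroupOf` -/
theorem map_conj_subgroupOf {G : Type*} [Group G] (K X : Subgroup G) (hX : X ≤ K) (n : ↥K) :
    (X.map (MulAut.conj (n : G)).toMonoidHom).subgroupOf K =
      (X.subgroupOf K).map (MulAut.conj n).toMonoidHom := by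
  ext y
  rw [Subgroup.mem_subgroupOf]
  constructor
  · rintro ⟨x, hx, hxy⟩
    refine ⟨⟨x, hX hx⟩, hx, ?_⟩
    apply Subtype.ext
    simpa [MulAut.conj_apply] using hxy
  · rintro ⟨x, hx, rfl⟩
    refine ⟨(x : G), hx, ?_⟩
    simp [MulAut.conj_apply]

theorem theta_eq_one_of_roots (hD : D ∈ [chevG2, chevB2, chevD4, chevF4, chevE6, chevE7, chevE8])
    (ns : ℕ → ↥(D.group F))
    (hns : ∀ i < D.rank, (((ns i : ↥(D.group F)) : GL D.Idx F) : Matrix D.Idx D.Idx F) = D.nMat F (D.simple i) 1)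
    (θ : ↥(chevS (F := F) hD).T →* ℂˣ)
    (h : ∀ i < D.rank, ∀ (t : ↥(D.group F)) (ht : t ∈ (chevS (F := F) hD).T),
      t ∈ (D.rootSubgroup F (D.simple i)).subgroupOf (D.group F) ⊔
        ((D.rootSubgroup F (D.simple i)).subgroupOf (D.group F)).map (MulAut.conj (ns i)).toMonoidHom →
      θ ⟨t, ht⟩ = 1) : θ = 1 := by
  obtain ⟨hBG, -, -⟩ := Cfsg.Agent.S1043.result (F := F) D hD
  have hHG : D.diagonalSubgroup F ≤ D.group F := fun g hg => hBG (Subgroup.mem_sup_right hg)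
  -- the subgroup of `GL` of elements of `H` killed by `θ`
  set K : Subgroup (GL D.Idx F) := (θ.ker.map (Subgroup.subtype _)).map (D.group F).subtype with hK
  have hgen := Cfsg.Agent.Lib.Helper5.StChev.diagonal_le_iSup (F := F) hD
    (fun i => ((ns i : ↥(D.group F)) : GL D.Idx F)) hns
  have hle : D.diagonalSubgroup F ≤ K := by
    refine hgen.trans ?_
    refine iSup_le fun i => iSup_le fun hi => ?_
    have hi' : i < D.rank := Finset.mem_range.1 hi
    intro g hg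
    obtain ⟨hgH, hgX⟩ := Subgroup.mem_inf.1 hg
    have hXG : D.rootSubgroup F (D.simple i) ≤ D.group F := rootSubgroup_le_group hD _
    have hXnG : (D.rootSubgroup F (D.simple i)).map
        (MulAut.conj ((ns i : ↥(D.group F)) : GL D.Idx F)).toMonoidHom ≤ D.group F := by
      rintro y ⟨x, hx, rfl⟩
      simp only [MulEquiv.coe_toMonoidHom, MulAut.conj_apply]
      exact (D.group F).mul_mem ((D.group F).mul_mem (ns i).2 (hXG hx)) ((D.group F).inv_mem (ns i).2)
    have hmem : (⟨g, hHG hgH⟩ : ↥(D.group F)) ∈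
        (D.rootSubgroup F (D.simple i)).subgroupOf (D.group F) ⊔
        ((D.rootSubgroup F (D.simple i)).subgroupOf (D.group F)).map
          (MulAut.conj (ns i)).toMonoidHom := by
      rw [← map_conj_subgroupOf (D.group F) _ hXG (ns i), ← Subgroup.subgroupOf_sup hXG hXnG]
      exact hgX
    have hθ := h i hi' ⟨g, hHG hgH⟩ (mem_TG.2 hgH) hmem
    exact ⟨⟨g, hHG hgH⟩, ⟨⟨⟨g, hHG hgH⟩, mem_TG.2 hgH⟩, hθ, rfl⟩, rfl⟩
  ext t
  have ht : ((t : ↥(D.group F)) : GL D.Idx F) ∈ K := hle (mem_TG.1 t.2)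
  obtain ⟨y, ⟨k, hk, hky⟩, hy⟩ := ht
  have : k = t := by
    apply Subtype.ext
    apply Subtype.ext
    rw [← hy, ← hky]
    rfl
  rw [← this, MonoidHom.mem_ker.1 hk]
  rfl

end Cfsg.Agent.Lib.Helper44.StChev
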