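import Cfsg.Agent.Lib.Helper82.StUniq.ChevDefs
import Cfsg.Agent.Lib.Helper82.StUniq.Main
import Cfsg.Agent.Lib.Helper5.ChevSt
import Cfsg.Agent.Lib.Helper5.StChev.AsmRootFinal
import Cfsg.Agent.Lib.Helper44.StChev.AsmNE
import Cfsg.Agent.Lib.Helper44.StChev.AsmCell
import Cfsg.Agent.Lib.Helper44.StChev.AsmHT
import Cfsg.Agent.S2328
import Cfsg.Agent.S1027
import Cfsg.Agent.S1053

/-!
# S2318-[C-FINAL] (helper82's project): the Steinberg character is the only irreducible character of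
a Chevalley group vanishing on `U \ {1}`
-/

set_option autoImplicit false

namespace Cfsg.Agent.Lib.Helper44.StChev

open Cfsg Cfsg.Lie Cfsg.Agent.Lib.Helper18 Cfsg.Agent.Lib.Helper82.StUniq Cfsg.Agent.Lib.Helper82.StChev

universe u
variable {F : Type u} [Field F] {D : ChevalleyDatum}

/-- nontrivial elements of `U` have order divisible by `p` -/
theorem dvd_orderOf_of_mem_UG [Fintype F] (p : ℕ) [Fact p.Prime] [CharP F p]
    (hD : D ∈ [chevG2, chevB2, chevD4, chevF4, chevE6, chevE7, chevE8])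
    (u : ↥(D.group F)) (hu : u ∈ UG D F) (hu1 : u ≠ 1) : p ∣ orderOf u := by
  have hp : p.Prime := Fact.out
  obtain ⟨k, -, hk⟩ := FiniteField.card F p
  have hcard := Cfsg.Agent.S1027.result (F := F) D hD
  set u' : ↥(D.posUnipotent F) := ⟨(u : GL D.Idx F), mem_UG.1 hu⟩ with hu'
  have h1 : orderOf u' ∣ Nat.card (D.posUnipotent F) := orderOf_dvd_natCard u'
  rw [hcard, hk, ← pow_mul] at h1
  obtain ⟨j, -, hj⟩ := (Nat.dvd_prime_pow hp).1 h1
  have h2 : orderOf u = orderOf u' := by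
    rw [← Subgroup.orderOf_coe u, ← Subgroup.orderOf_coe u']
  rw [h2, hj]
  have hj0 : j ≠ 0 := by
    rintro rfl
    rw [pow_zero, orderOf_eq_one_iff] at hj
    apply hu1
    apply Subtype.ext
    have h3 := congrArg (Subtype.val : ↥(D.posUnipotent F) → GL D.Idx F) hj
    exact h3
  exact dvd_pow_self p hj0

theorem steinberg_unique [Fintype F] (p : ℕ) [Fact p.Prime] [CharP F p]
    (hD : D ∈ [chevG2, chevB2, chevD4, chevF4, chevE6, chevE7, chevE8])
    (χ : ↥(D.group F) → ℂ) (hχ : IsIrrCharacter ↥(D.group F) χ)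
    (hv : ∀ u ∈ UG D F, u ≠ 1 → χ u = 0) : χ = D.steinbergCharacter F := by
  classical
  have : Fintype ↥(D.group F) := Fintype.ofFinite _
  obtain ⟨C⟩ := nonempty_chevData.{u} D hD
  obtain ⟨-, hNG, -⟩ := Cfsg.Agent.S1043.result (F := F) D hD
  obtain ⟨n, hnN, hnV⟩ := Cfsg.Agent.S1053.result (F := F) D hD
  set n₀ : ↥(D.group F) := ⟨n, hNG hnN⟩ with hn₀def
  have hn₀ : IsLongestRep D F (n₀ : GL D.Idx F) := ⟨hnN, hnV⟩
  -- the root data
  have hex : ∀ i : Fin D.rank, ∃ R : RootDatum (chevS (F := F) hD) (nondeg hD),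
      R.n = Cfsg.Agent.Lib.Helper5.ChevSt.sigma hD C i ∧
      R.X = (D.rootSubgroup F (D.simple i)).subgroupOf (D.group F) := fun i =>
    Cfsg.Agent.Lib.Helper5.StChev.exists_rootDatum hD n₀ hn₀ i i.2
      (Cfsg.Agent.Lib.Helper5.ChevSt.sigma hD C i) (Cfsg.Agent.Lib.Helper5.ChevSt.coe_sigma hD C i)
  choose R hRn hRX using hex
  set ns : ℕ → ↥(D.group F) := fun i =>
    if h : i < D.rank then Cfsg.Agent.Lib.Helper5.ChevSt.sigma hD C ⟨i, h⟩ else 1 with hns
  have hns' : ∀ i < D.rank, (((ns i : ↥(D.group F)) : GL D.Idx F) : Matrix D.Idx D.Idx F) =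
      D.nMat F (D.simple i) 1 := by
    intro i hi
    simp only [hns, dif_pos hi]
    exact Cfsg.Agent.Lib.Helper5.ChevSt.coe_sigma hD C ⟨i, hi⟩
  refine unique_vanishing_character (chevS (F := F) hD) (nondeg hD) (nondeg_nonempty hD) n₀
    (fun ψ hψ => cellHyp_nondeg hD n₀ hn₀ ψ hψ) R ?_ χ (D.steinbergCharacter F) hχ
    (Cfsg.Agent.Lib.Helper5.ChevSt.steinberg_irr D hD) hv ?_
  · intro θ hθ
    refine theta_eq_one_of_roots hD ns hns' θ ?_
    intro i hi t ht htX
    refine hθ ⟨i, hi⟩ t ht ?_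
    rw [hRn, hRX]
    have e : ns i = Cfsg.Agent.Lib.Helper5.ChevSt.sigma hD C ⟨i, hi⟩ := by
      simp only [hns, dif_pos hi]
    rw [← e]
    exact htX
  · intro u hu hu1
    exact Cfsg.Agent.S2328.result p D hD u (dvd_orderOf_of_mem_UG p hD u hu hu1)

end Cfsg.Agent.Lib.Helper44.StChev
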